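import Cfsg.Agent.Lib.CurtisTits.Check

/-! Tables for the Curtis–Tits argument in type D4 (generated; checked by the kernel). -/

set_option autoImplicit false
set_option maxRecDepth 100000
set_option linter.style.longLine false

namespace Cfsg.Agent.Lib.CurtisTits.Data.D4

/-- words to the roots -/
def words : List (List ℕ) :=
  [[1, 3, 2], [3, 2], [2], [3], [], [], [3], [], [], [], [], [], [], [], [], [], [], [2], [], [], [0], [0], [2, 0], [1, 2, 0]]

/-- part 1 of the table `steps` -/
def steps1 : List ℕ :=
  [4160, 5184, 9280, 10368, 11456, 12480, 13440, 14400, 18496, 19520, 4100, 5124, 7300, 8388, 9220, 10372, 11460, 12484, 13444, 14340, 15556, 16516, 18436, 19460, 5128, 7240, 9288, 10312, 11464, 12488, 13384, 14408, 16456, 18440, 5132, 8268, 9292, 10380, 11340, 12364, 13452, 14412, 15436, 18444, 1029, 2061, 4105, 4109, 7181, 15369, 15361, 16385, 20489, 22533, 20482, 21506, 6, 20487, 21511, 23558, 2058, 17418, 19467, 21514, 22538, 23627, 1038, 3086, 6158, 16527, 17422, 19471, 20494, 21647, 22542, 23631, 2179, 3267, 7170, 8194, 17539, 22530,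 2055, 3079, 6343, 17543, 1227, 3082, 6347, 8202, 79, 1155, 6146, 23619, 75, 67]

/-- the table `steps` -/
def steps : List ℕ := steps1

/-- part 1 of the table `dec` -/
def dec1 : List ℕ :=
  [132106, 197643, 395019, 1117200, 1313811, 1379603, 66059, 1444885, 265, 1510934]

/-- the table `dec` -/
def dec : List ℕ := dec1

/-- words for the representative pairs -/
def pairWords : List (List ℕ) := [[3, 2, 1, 0], [1, 2, 0, 1], [1, 3, 0, 1]]

end Cfsg.Agent.Lib.CurtisTits.Data.D4
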