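import Cfsg.Agent.Lib.CurtisTits.Check

/-! Tables for the Curtis–Tits argument in type F4 (generated; checked by the kernel). -/

set_option autoImplicit false
set_option maxRecDepth 100000
set_option linter.style.longLine false

namespace Cfsg.Agent.Lib.CurtisTits.Data.F4

/-- words to the roots -/
def words : List (List ℕ) :=
  [[3, 2, 1, 2, 3, 0], [2, 1, 2, 3, 0], [1, 2, 3, 0], [0, 1, 2, 3, 1, 2], [2, 3, 0], [3, 0], [0], [1, 2, 3, 1, 2], [2, 3, 1, 2], [3, 1, 2], [1, 2], [3, 2], [2], [], [], [2, 3], [3], [], [3], [], [], [], [], [], [], [], [], [], [], [3], [], [1], [2, 1], [], [], [0], [3, 0], [1, 0], [3, 1, 0], [2, 3, 1, 0], [1, 2, 3, 1, 0], [0], [0, 1], [2, 0, 1], [0, 1, 2, 3, 1, 0], [1, 2, 0, 1], [2, 1, 2, 0, 1], [3, 2, 1, 2, 0, 1]]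

/-- part 1 of the table `steps` -/
def steps1 : List ℕ :=
  [13376, 14400, 20544, 22656, 23744, 24768, 25728, 27712, 33856, 34880, 13316, 14340, 17540, 19588, 20484, 22660, 23748, 24772, 25732, 27652, 28804, 30852, 33796, 34820, 14344, 17480, 19528, 20552, 21704, 22728, 23752, 24776, 25800, 26824, 27720, 28744, 30792, 33800, 14348, 20556, 21644, 22668, 23692, 24716, 25740, 26764, 27724, 33804, 1037, 2057, 4101, 7169, 5129, 6157, 17409, 8197, 9225, 10253, 12293, 12301, 13321, 16393, 17421, 19469, 28685, 26629, 31753, 28673, 35853, 35845, 37901, 38921, 39941, 30721, 31745, 43017, 40961, 44037, 46089, 47117, 3074, 6146, 21635, 26755, 35842, 41986, 43010, 45058, 2054, 6151, 7174, 10246, 31750, 37894, 40966, 41991, 43015, 46086, 1034, 4106, 6155, 8202, 12298, 15370, 32778, 34827, 35850, 37963, 39946, 41995, 44042, 47114, 14, 5134, 9230, 11278, 13327, 16398, 18446, 29710, 30799, 31758, 32911, 34831, 36878, 38926, 40079, 41039, 41999, 43022, 44175, 45071, 46159, 48142, 5315, 12419,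 16386, 19458, 29891, 32899, 36866, 37955, 39107, 40067, 44034, 5319, 9415, 11270, 16583, 18631, 21510, 29895, 32903, 37063, 38918, 45063, 47239, 48327, 10315, 11467, 18635, 29899, 36875, 41035, 45067, 48331, 4239, 8335, 15503, 4227, 10307, 11459, 15362, 18434, 46147, 47235, 48323, 1159, 15495, 7243, 2127, 7247, 2115, 9283, 199, 203, 3083, 3087, 1155, 8323, 3079, 195]

/-- the table `steps` -/
def steps : List ℕ := steps1

/-- part 1 of the table `dec` -/
def dec1 : List ℕ :=
  [790035, 2300961, 658452, 1052951, 2037790, 2431779, 395806, 987158, 2103583, 2691365, 329239, 2758697, 263446, 2824490, 132369, 2956842, 66070, 3021101, 279, 3086382, 1183516, 1905440, 721955, 2362411, 590373, 2492973, 524326, 2558255, 458788, 2624303, 196637, 2888239]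

/-- the table `dec` -/
def dec : List ℕ := dec1

/-- words for the representative pairs -/
def pairWords : List (List ℕ) := [[1, 2, 0, 1, 2, 3, 0, 1, 2], [3, 2, 0, 1, 2, 3, 1, 0], [2, 1, 2, 0, 1, 2, 3, 2, 0, 1], [2, 3, 1, 2, 0, 1, 2, 0, 1], [1, 2, 3, 2, 1, 2, 0, 1, 2, 0]]

end Cfsg.Agent.Lib.CurtisTits.Data.F4
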